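/-
Permutation groups of prime degree with a Sylow normalizer of order `2p`: local facts.
-/
import Mathlib

set_option autoImplicit false
set_option linter.unusedSectionVars false

namespace CfsgLib.Perm.TwoP

open MulAction

variable {α : Type*} [Fintype α] [DecidableEq α] {p : ℕ} [hp : Fact p.Prime]
  {G : Subgroup (Equiv.Perm α)} (hα : Fintype.card α = p)

include hα

/-- An element of order `p` fixes no point. -/
theorem no_fix {g : G} (hg : orderOf g = p) (x : α) : g • x ≠ x := by
  have hord : orderOf (g : Equiv.Perm α) = p := by rw [Subgroup.orderOf_coe, hg]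
  obtain ⟨i, hi⟩ := Equiv.Perm.cycleType_prime_order (hord.symm ▸ hp.out)
  have h1 := (g : Equiv.Perm α).sum_cycleType
  rw [hi, hord, Multiset.sum_replicate, smul_eq_mul] at h1
  have h2 := Finset.card_le_univ (g : Equiv.Perm α).support
  rw [hα] at h2
  have h3 : p ≤ (i + 1) * p := Nat.le_mul_of_pos_left p (by omega)
  have hu : (g : Equiv.Perm α).support = Finset.univ := Finset.eq_univ_of_card _ (by omega)
  exact Equiv.Perm.mem_support.1 (hu ▸ Finset.mem_univ x)

/-- The powers of an element of order `p` are transitive. -/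
theorem exists_pow {g : G} (hg : orderOf g = p) (x y : α) : ∃ k : ℕ, k < p ∧ g ^ k • x = y := by
  haveI : NeZero p := ⟨hp.out.ne_zero⟩
  have hinj : Function.Injective (fun k : Fin p => g ^ k.val • x) := by
    intro a b h
    simp only at h
    by_contra hne
    wlog hab : a.val < b.val generalizing a b
    · exact this h.symm (Ne.symm hne) (lt_of_le_of_ne (not_lt.1 hab) fun e => hne (Fin.ext e.symm))
    have h1 : g ^ (b.val - a.val) • x = x := by
      apply MulAction.injective (g ^ a.val)
      show g ^ a.val • g ^ (b.val - a.val) • x = g ^ a.val • x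
      rw [← mul_smul, ← pow_add, Nat.add_sub_cancel' hab.le, h]
    have hcop : Nat.Coprime (b.val - a.val) p := (hp.out.coprime_iff_not_dvd.2 fun hd => by
      have := Nat.le_of_dvd (by omega) hd; have := b.isLt; omega).symm
    refine no_fix hα (g := g ^ (b.val - a.val)) ?_ x h1
    rw [Nat.Coprime.orderOf_pow (by rw [hg]; exact hcop.symm), hg]
  obtain ⟨k, hk⟩ := ((Fintype.bijective_iff_injective_and_card _).2
    ⟨hinj, by rw [Fintype.card_fin, hα]⟩).2 y
  exact ⟨k.val, k.isLt, hk⟩

theorem transitive_of_order {g : G} (hg : orderOf g = p) : IsPretransitive G α :=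
  ⟨fun x y => by obtain ⟨k, -, hk⟩ := exists_pow hα hg x y; exact ⟨g ^ k, hk⟩⟩

/-- An involution does not commute with an element of order `p`. -/
theorem not_commute (hp2 : p ≠ 2) {g u : G} (hg : orderOf g = p) (hu : orderOf u = 2) : ¬ Commute u g := by
  intro h
  have hodd : ¬ 2 ∣ p := fun hd => hp2 ((Nat.prime_dvd_prime_iff_eq Nat.prime_two hp.out).1 hd).symm
  have hu2 : (u : Equiv.Perm α) ^ 2 = 1 := by rw [← Subgroup.coe_pow, ← hu, pow_orderOf_eq_one, Subgroup.coe_one]
  obtain ⟨x, hx⟩ := Equiv.Perm.exists_fixed_point_of_prime (p := 2) (n := 1)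
    (by rw [hα]; exact hodd) (by rw [pow_one]; exact hu2)
  have hone : u = 1 := Subtype.ext (Equiv.ext fun y => by
    obtain ⟨k, -, rfl⟩ := exists_pow hα hg x y
    show u • g ^ k • x = g ^ k • x
    rw [← mul_smul, (h.pow_right k).eq, mul_smul]
    exact congrArg _ hx)
  rw [hone, orderOf_one] at hu
  omega

variable {P : Subgroup G} (hP : Nat.card P = p)

include hP

omit hα in
theorem zpowers_eq {g : G} (hg : g ∈ P) (h1 : g ≠ 1) : Subgroup.zpowers g = P ∧ orderOf g = p := by
  have hd : orderOf g ∣ p := hP ▸ Subgroup.orderOf_dvd_natCard P hg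
  have ho : orderOf g = p := ((Nat.dvd_prime hp.out).1 hd).resolve_left fun h => h1 (orderOf_eq_one_iff.1 h)
  haveI : Finite P := Nat.finite_of_card_ne_zero (hP ▸ hp.out.ne_zero)
  exact ⟨Subgroup.eq_of_le_of_card_ge (Subgroup.zpowers_le.2 hg) (by rw [Nat.card_zpowers, ho, hP]), ho⟩

variable (hN : Nat.card (Subgroup.normalizer (P : Set G)) = 2 * p)

include hN

/-- The centraliser of a non-trivial element of `P` is `P`. -/
theorem centralizer_eq (hp2 : p ≠ 2) {g : G} (hg : g ∈ P) (h1 : g ≠ 1) :
    Subgroup.centralizer ({g} : Set G) = P := by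
  obtain ⟨hz, ho⟩ := zpowers_eq hP hg h1
  have hle : P ≤ Subgroup.centralizer ({g} : Set G) := fun u hu => by
    obtain ⟨k, rfl⟩ := Subgroup.mem_zpowers_iff.1 (hz ▸ hu)
    exact Subgroup.mem_centralizer_singleton_iff.2 ((Commute.refl g).zpow_left k).eq
  have hsub : Subgroup.centralizer ({g} : Set G) ≤ Subgroup.normalizer (P : Set G) := fun x hx => by
    rw [Subgroup.mem_normalizer_iff]
    have hc : Commute x g := Subgroup.mem_centralizer_singleton_iff.1 hx
    intro u
    constructor <;> intro hu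
    · obtain ⟨k, rfl⟩ := Subgroup.mem_zpowers_iff.1 (hz ▸ hu)
      rwa [(hc.zpow_right k).eq, mul_inv_cancel_right]
    · obtain ⟨k, hk⟩ := Subgroup.mem_zpowers_iff.1 (hz ▸ hu)
      have h2 : x⁻¹ * g ^ k * x = u := by rw [hk]; group
      have : u = g ^ k := by rw [← h2, mul_assoc, ← (hc.zpow_right k).eq, inv_mul_cancel_left]
      exact this ▸ P.zpow_mem hg k
  refine (Subgroup.eq_of_le_of_card_ge hle ?_).symm
  have hd : Nat.card (Subgroup.centralizer ({g} : Set G)) ∣ 2 * p := hN ▸ Subgroup.card_dvd_of_le hsub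
  by_contra hlt
  rw [hP, not_le] at hlt
  have h2 : 2 ∣ Nat.card (Subgroup.centralizer ({g} : Set G)) := by
    by_contra hnd
    have hcop := ((Nat.prime_two.coprime_iff_not_dvd).2 hnd).symm
    have := Nat.le_of_dvd hp.out.pos (hcop.dvd_of_dvd_mul_left hd)
    omega
  obtain ⟨u, hu⟩ := exists_prime_orderOf_dvd_card' 2 h2
  exact not_commute hα hp2 ho (u := (u : G)) (by rw [Subgroup.orderOf_coe, hu])
    (Subgroup.mem_centralizer_singleton_iff.1 u.2)

/-- The normalizer acts on `P` by `±1`, each half of the time. -/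
theorem sum_conj (hp2 : p ≠ 2) [Fintype G] {g : G} (hg : g ∈ P) (h1 : g ≠ 1) (F : G → ℂ)
    (hF : ∀ x ∉ Subgroup.normalizer (P : Set G), F (x⁻¹ * g * x) = 0) :
    ∑ x : G, F (x⁻¹ * g * x) = (p : ℂ) * (F g + F g⁻¹) := by
  classical
  obtain ⟨hz, ho⟩ := zpowers_eq hP hg h1
  have hcen := centralizer_eq hα hP hN hp2 hg h1
  have hPN : P ≤ Subgroup.normalizer (P : Set G) := Subgroup.le_normalizer
  have hidx : (P.subgroupOf (Subgroup.normalizer (P : Set G))).index = 2 := by
    have h := (P.subgroupOf (Subgroup.normalizer (P : Set G))).card_mul_index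
    rw [Nat.card_congr (Subgroup.subgroupOfEquivOfLe hPN).toEquiv, hP, hN, mul_comm 2 p] at h
    exact Nat.eq_of_mul_eq_mul_left hp.out.pos h
  have hcases : ∀ x ∈ Subgroup.normalizer (P : Set G), x⁻¹ * g * x = g ∨ x⁻¹ * g * x = g⁻¹ := by
    intro x hx
    have hmem : x⁻¹ * g * x ∈ P := by
      have := (Subgroup.mem_normalizer_iff.1 ((Subgroup.normalizer (P : Set G)).inv_mem hx) g).1 hg
      rwa [inv_inv] at this
    obtain ⟨k, hk⟩ := Subgroup.mem_zpowers_iff.1 (hz ▸ hmem)
    have hsq : x * x ∈ P := by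
      have := Subgroup.sq_mem_of_index_two hidx ⟨x, hx⟩
      rwa [sq, Subgroup.mem_subgroupOf] at this
    rw [← hcen, Subgroup.mem_centralizer_singleton_iff] at hsq
    have hkk : g ^ (k * k) = g := by
      have e : x⁻¹ * (g ^ k) * x = g := by
        calc x⁻¹ * g ^ k * x = (x * x)⁻¹ * (g * (x * x)) := by rw [hk]; group
          _ = g := by rw [← hsq, inv_mul_cancel_left]
      calc g ^ (k * k) = (g ^ k) ^ k := zpow_mul g k k
        _ = (x⁻¹ * g * x) ^ k := congrArg (· ^ k) hk
        _ = x⁻¹ * g ^ k * x := by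
            have h := conj_zpow (a := x⁻¹) (b := g) (i := k)
            rwa [inv_inv] at h
        _ = g := e
    have hdvd : (p : ℤ) ∣ (k - 1) * (k + 1) := by
      have : g ^ (k * k - 1) = 1 := by rw [zpow_sub, hkk, zpow_one, mul_inv_cancel]
      have := orderOf_dvd_iff_zpow_eq_one.2 this
      rw [ho] at this
      rwa [show (k - 1) * (k + 1) = k * k - 1 by ring]
    rcases (Nat.prime_iff_prime_int.1 hp.out).dvd_or_dvd hdvd with h | h
    · left
      rw [← hk, ← mul_inv_eq_one, ← zpow_sub_one]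
      exact orderOf_dvd_iff_zpow_eq_one.1 (ho ▸ h)
    · right
      rw [← hk, eq_inv_iff_mul_eq_one, ← zpow_add_one]
      exact orderOf_dvd_iff_zpow_eq_one.1 (ho ▸ h)
  have hfix : ∀ x : G, x⁻¹ * g * x = g ↔ x ∈ P := fun x => by
    rw [← hcen, Subgroup.mem_centralizer_singleton_iff]
    constructor <;> intro h
    · calc x * g = x * (x⁻¹ * g * x) := by rw [h]
        _ = g * x := by group
    · rw [mul_assoc, ← h, inv_mul_cancel_left]
  have hsplit : ∀ x : G, F (x⁻¹ * g * x) =
      (if x ∈ P then F g else 0) + (if x ∈ Subgroup.normalizer (P : Set G) ∧ x ∉ P then F g⁻¹ else 0) := by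
    intro x
    by_cases hx : x ∈ P
    · rw [if_pos hx, if_neg (fun h => h.2 hx), (hfix x).2 hx, add_zero]
    · by_cases hxN : x ∈ Subgroup.normalizer (P : Set G)
      · rw [if_neg hx, if_pos ⟨hxN, hx⟩, ((hcases x hxN).resolve_left fun h => hx ((hfix x).1 h)), zero_add]
      · rw [if_neg hx, if_neg (fun h => hxN h.1), hF x hxN, add_zero]
  have c1 : (Finset.univ.filter (fun x : G => x ∈ P)).card = p := by
    rw [← Fintype.card_subtype, ← Nat.card_eq_fintype_card]; exact hP
  have c2 : (Finset.univ.filter (fun x : G => x ∈ Subgroup.normalizer (P : Set G) ∧ x ∉ P)).card = p := by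
    have cN : (Finset.univ.filter (fun x : G => x ∈ Subgroup.normalizer (P : Set G))).card = 2 * p := by
      rw [← Fintype.card_subtype, ← Nat.card_eq_fintype_card]; exact hN
    rw [show (Finset.univ.filter (fun x : G => x ∈ Subgroup.normalizer (P : Set G) ∧ x ∉ P)) =
      (Finset.univ.filter (fun x : G => x ∈ Subgroup.normalizer (P : Set G))) \
        (Finset.univ.filter (fun x : G => x ∈ P)) by ext x; simp, Finset.card_sdiff_of_subset (fun x hx => by
          simp only [Finset.mem_filter, Finset.mem_univ, true_and] at hx ⊢; exact hPN hx), cN, c1]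
    omega
  rw [Finset.sum_congr rfl fun x _ => hsplit x, Finset.sum_add_distrib, ← Finset.sum_filter,
    ← Finset.sum_filter, Finset.sum_const, Finset.sum_const, c1, c2]
  simp only [nsmul_eq_mul]
  ring

omit hN in
/-- An involution inverting `g` fixes at most one point. -/
theorem inverter_fix (hp2 : p ≠ 2) {g u : G} (hg : g ∈ P) (h1 : g ≠ 1) (hu : u * g * u⁻¹ = g⁻¹)
    {x y : α} (hx : u • x = x) (hy : u • y = y) : x = y := by
  obtain ⟨-, ho⟩ := zpowers_eq hP hg h1
  obtain ⟨k, hk, rfl⟩ := exists_pow hα ho x y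
  have he : u * g ^ k = (g ^ k)⁻¹ * u := by
    rw [← inv_pow, ← hu, conj_pow, inv_mul_cancel_right]
  rw [← mul_smul, he, mul_smul, hx, inv_smul_eq_iff, ← mul_smul, ← pow_add] at hy
  by_contra hne
  have hk0 : k ≠ 0 := fun e => hne (by rw [e, pow_zero, one_smul])
  have hcop : Nat.Coprime (orderOf g) (k + k) := by
    rw [ho]
    refine hp.out.coprime_iff_not_dvd.2 fun hd => ?_
    rw [← two_mul] at hd
    rcases hp.out.dvd_mul.1 hd with h | h
    · exact hp2 ((Nat.prime_dvd_prime_iff_eq hp.out Nat.prime_two).1 h)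
    · have := Nat.le_of_dvd (by omega) h; omega
  exact no_fix hα (g := g ^ (k + k)) (by rw [Nat.Coprime.orderOf_pow hcop, ho]) x hy.symm

end CfsgLib.Perm.TwoP
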