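/-
Permutation groups of prime degree with a Sylow normalizer of order `2p`: the exceptional
characters, involutions and the count of quadruples.
-/
import Cfsg.Agent.Lib.Perm.PrimeTwoP.Basic
import Cfsg.Agent.Lib.Char.Perm
import Cfsg.Agent.Lib.Char.ClassMul

set_option autoImplicit false
set_option linter.unusedSectionVars false

namespace CfsgLib.Perm.TwoP

open MulAction Cfsg CfsgLib.Char
open scoped ComplexConjugate

variable {α : Type*} [Fintype α] [DecidableEq α] {p : ℕ} [hp : Fact p.Prime]
  {G : Subgroup (Equiv.Perm α)} {P : Subgroup G}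

/-- The linear characters of `P`. -/
noncomputable def lamF (e : Multiplicative (ZMod p) ≃* P) (a : ZMod p) : P → ℂ :=
  fun u => ZMod.stdAddChar (a * Multiplicative.toAdd (e.symm u))

theorem lamF_one (e : Multiplicative (ZMod p) ≃* P) (a : ZMod p) : lamF e a 1 = 1 := by
  simp [lamF]

theorem lamF_zero (e : Multiplicative (ZMod p) ≃* P) : lamF e 0 = fun _ => 1 := by
  funext u; simp [lamF]

theorem lamF_inv (e : Multiplicative (ZMod p) ≃* P) (a : ZMod p) (u : P) :
    lamF e a u⁻¹ = lamF e (-a) u := by
  simp [lamF, toAdd_inv]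

theorem lamF_conj (e : Multiplicative (ZMod p) ≃* P) (a : ZMod p) (u : P) :
    conj (lamF e a u) = lamF e (-a) u := by
  rw [lamF, ← AddChar.map_neg_eq_conj, lamF, neg_mul]

theorem isCharacter_lamF (e : Multiplicative (ZMod p) ≃* P) (a : ZMod p) :
    IsCharacter P (lamF e a) := by
  let h : P →* ℂ :=
    { toFun := lamF e a
      map_one' := lamF_one e a
      map_mul' := fun u v => by
        simp only [lamF, map_mul, toAdd_mul, mul_add]
        exact AddChar.map_add_eq_mul _ _ _ }
  exact isCharacter_of_isIrr (isIrrCharacter_lin h.toHomUnits)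

theorem sum_lamF (e : Multiplicative (ZMod p) ≃* P) [Fintype P] (a : ZMod p) :
    ∑ u : P, lamF e a u = if a = 0 then (p : ℂ) else 0 := by
  rw [← Equiv.sum_comp (Multiplicative.ofAdd.trans e.toEquiv) (lamF e a)]
  simp only [lamF, Equiv.trans_apply, MulEquiv.toEquiv_eq_coe, MulEquiv.coe_toEquiv,
    MulEquiv.symm_apply_apply, toAdd_ofAdd, mul_comm a]
  rw [AddChar.sum_mulShift a (ZMod.isPrimitive_stdAddChar p), ZMod.card]
  split <;> simp

theorem sum_lamF_dual (e : Multiplicative (ZMod p) ≃* P) {u : P} (hu : u ≠ 1) {k : ZMod p}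
    (hk : k ≠ 0) : ∑ a : ZMod p, lamF e (k * a) u = 0 := by
  have h := AddChar.sum_mulShift (k * Multiplicative.toAdd (e.symm u)) (ZMod.isPrimitive_stdAddChar p)
  rw [if_neg (mul_ne_zero hk fun h0 => hu (by
    have : e.symm u = 1 := Multiplicative.toAdd.injective (by rw [h0, toAdd_one])
    simpa using congrArg e this)), Nat.cast_zero] at h
  rw [← h]
  exact Finset.sum_congr rfl fun a _ => by rw [lamF, mul_comm k a, mul_assoc]

/-- Half of the non-zero residues. -/
def halfSet (p : ℕ) [Fact p.Prime] : Finset (ZMod p) :=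
  Finset.univ.filter fun a => a ≠ 0 ∧ a.val ≤ p / 2

theorem half_sum (hp2 : p ≠ 2) (F : ZMod p → ℂ) :
    ∑ a ∈ halfSet p, (F a + F (-a)) = (∑ a : ZMod p, F a) - F 0 := by
  haveI : NeZero p := ⟨hp.out.ne_zero⟩
  have hodd : p % 2 = 1 := hp.out.eq_two_or_odd.resolve_left hp2
  rw [Finset.sum_add_distrib, ← Finset.sum_image (f := F) (g := fun a : ZMod p => -a) neg_injective.injOn,
    ← Finset.sum_union ?_, ← Finset.sum_erase_eq_sub (Finset.mem_univ 0)]
  · refine Finset.sum_congr ?_ fun _ _ => rfl
    ext a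
    simp only [halfSet, Finset.mem_union, Finset.mem_image, Finset.mem_filter, Finset.mem_univ,
      true_and, Finset.mem_erase, and_true]
    constructor
    · rintro (⟨h, -⟩ | ⟨b, ⟨h, -⟩, rfl⟩)
      · exact h
      · exact neg_ne_zero.2 h
    · intro h
      by_cases hle : a.val ≤ p / 2
      · exact .inl ⟨h, hle⟩
      · refine .inr ⟨-a, ⟨neg_ne_zero.2 h, ?_⟩, neg_neg a⟩
        haveI : NeZero a := ⟨h⟩
        rw [ZMod.val_neg_of_ne_zero]
        omega
  · rw [Finset.disjoint_left]
    intro a ha hb
    simp only [halfSet, Finset.mem_image, Finset.mem_filter, Finset.mem_univ, true_and] at ha hb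
    obtain ⟨b, ⟨hb0, hb⟩, rfl⟩ := hb
    haveI : NeZero b := ⟨hb0⟩
    have h := ha.2
    rw [ZMod.val_neg_of_ne_zero] at h
    omega

theorem card_halfSet (hp2 : p ≠ 2) : 2 * ((halfSet p).card : ℂ) = (p : ℂ) - 1 := by
  have h := half_sum hp2 (fun _ => (1 : ℂ))
  simp only [Finset.sum_const, nsmul_eq_mul, mul_one, Finset.card_univ, ZMod.card] at h
  linear_combination h

theorem half_neg (hp2 : p ≠ 2) {a b : ZMod p} (ha : a ∈ halfSet p) (hb : b ∈ halfSet p) : a ≠ -b := by
  haveI : NeZero p := ⟨hp.out.ne_zero⟩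
  rintro rfl
  simp only [halfSet, Finset.mem_filter, Finset.mem_univ, true_and] at ha hb
  haveI : NeZero b := ⟨hb.1⟩
  have := ha.2
  rw [ZMod.val_neg_of_ne_zero] at this
  have hodd : p % 2 = 1 := hp.out.eq_two_or_odd.resolve_left hp2
  omega

variable (hα : Fintype.card α = p) (hp2 : p ≠ 2) (hP : Nat.card P = p)
  (hN : Nat.card (Subgroup.normalizer (P : Set G)) = 2 * p) [Fintype G]
  (e : Multiplicative (ZMod p) ≃* P)

/-- The induced linear character. -/
noncomputable def indLam (a : ZMod p) : G → ℂ := indFun P (lamF e a)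

/-- The exceptional character. -/
noncomputable def eta (a : ZMod p) : G → ℂ :=
  permChar G α - ((fun _ => 1) + fun _ => 1) + indLam e 0 - indLam e a

theorem eta_apply (a : ZMod p) (g : G) :
    eta e a g = permChar G α g - 2 + indLam e 0 g - indLam e a g := by
  simp only [eta, Pi.sub_apply, Pi.add_apply]
  ring

theorem isClassFunction_eta (a : ZMod p) : IsClassFunction G (eta e a) := fun g h => by
  simp only [eta_apply, indLam, isClassFunction_indFun P _ g h,
    isClassFunction_of_isCharacter (isCharacter_permChar α) g h]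

include hP

theorem indLam_eq_zero (a : ZMod p) {g : G} (h1 : g ≠ 1) (hg : orderOf g ≠ p) : indLam e a g = 0 := by
  rw [indLam, indFun, Finset.sum_eq_zero, mul_zero]
  intro x _
  refine extendByZero_not_mem _ _ fun h => hg ?_
  have hne : x⁻¹ * g * x ≠ 1 := fun e' => h1 (by
    have := congrArg (fun y => x * y * x⁻¹) e'
    simpa [mul_assoc] using this)
  obtain ⟨-, ho⟩ := zpowers_eq hP h hne
  rw [← ho, show x⁻¹ * g * x = MulAut.conj x⁻¹ g by simp [MulAut.conj_apply], MulEquiv.orderOf_eq]

omit hP in
theorem indLam_one (a : ZMod p) : indLam e a 1 = (P.index : ℂ) := by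
  rw [indLam, indFun_one, lamF_one, mul_one]

include hα

omit hP in
theorem perm_of_order {g : G} (hg : orderOf g = p) : permChar G α g = 0 := by
  have : IsEmpty (MulAction.fixedBy α g) := ⟨fun x => no_fix hα hg x.1 x.2⟩
  simp [permChar]

omit hP in
theorem perm_one : permChar G α (1 : G) = (p : ℂ) := by
  simp [permChar, hα, Nat.card_eq_fintype_card]

include hp2 hN

theorem indLam_on (a : ZMod p) {u : P} (hu : u ≠ 1) :
    indLam e a u = lamF e a u + lamF e (-a) u := by
  have h1 : (u : G) ≠ 1 := fun h => hu (Subtype.ext h)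
  obtain ⟨hz, -⟩ := zpowers_eq hP u.2 h1
  have hF : ∀ x ∉ Subgroup.normalizer (P : Set G), extendByZero P (lamF e a) (x⁻¹ * u * x) = 0 := by
    intro x hx
    refine extendByZero_not_mem _ _ fun h => hx ?_
    have hne : x⁻¹ * (u : G) * x ≠ 1 := fun e' => h1 (by
      have := congrArg (fun y => x * y * x⁻¹) e'
      simpa [mul_assoc] using this)
    obtain ⟨hz', -⟩ := zpowers_eq hP h hne
    rw [Subgroup.mem_normalizer_iff]
    intro v
    constructor <;> intro hv
    · obtain ⟨k, rfl⟩ := Subgroup.mem_zpowers_iff.1 (hz' ▸ hv)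
      rw [← conj_zpow, show x * (x⁻¹ * (u : G) * x) * x⁻¹ = u by group]
      exact P.zpow_mem u.2 k
    · obtain ⟨k, hk⟩ := Subgroup.mem_zpowers_iff.1 (hz ▸ hv)
      have : v = (x⁻¹ * (u : G) * x) ^ k := by
        have h3 := conj_zpow (a := x⁻¹) (b := (u : G)) (i := k)
        rw [inv_inv] at h3
        rw [h3, hk]
        group
      exact this ▸ P.zpow_mem h k
  rw [indLam, indFun, sum_conj hα hP hN hp2 u.2 h1 _ hF, hP, extendByZero_mem P _ u.2,
    extendByZero_mem P _ (P.inv_mem u.2), ← mul_assoc, inv_mul_cancel₀ (Nat.cast_ne_zero.2 hp.out.ne_zero),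
    one_mul]
  congr 1
  exact lamF_inv e a u

theorem inner_ind_ind (a b : ZMod p) :
    classInner (indLam e a) (indLam e b) =
      ((P.index : ℂ) - 2) / p + (if a = b then 1 else 0) + (if a = -b then 1 else 0) := by
  classical
  haveI : Fintype P := Fintype.ofFinite P
  have hval : ∀ u : P, indLam e a u =
      lamF e a u + lamF e (-a) u + (if u = 1 then (P.index : ℂ) - 2 else 0) := by
    intro u
    split_ifs with h
    · subst h
      rw [OneMemClass.coe_one, indLam_one, lamF_one, lamF_one]
      ring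
    · rw [indLam_on hα hp2 hP hN e a h, add_zero]
  have hmul : ∀ c : ZMod p, ∀ u : P, lamF e c u * lamF e (-b) u = lamF e (c - b) u := fun c u => by
    simp only [lamF, ← AddChar.map_add_eq_mul, sub_eq_add_neg, add_mul]
  rw [show classInner (indLam e a) (indLam e b) = classInner (fun u : P => indLam e a u) (lamF e b) from
    classInner_indFun_right P _ _ (isClassFunction_indFun P _), classInner, hP]
  simp only [hval, lamF_conj, add_mul, hmul, Finset.sum_add_distrib, sum_lamF, ite_mul, zero_mul,
    Finset.sum_ite_eq', Finset.mem_univ, if_true, lamF_one, mul_one, sub_eq_zero, neg_eq_iff_eq_neg]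
  have hpne : (p : ℂ) ≠ 0 := Nat.cast_ne_zero.2 hp.out.ne_zero
  split_ifs <;> field_simp <;> ring

theorem inner_perm_ind (a : ZMod p) : classInner (permChar G α) (indLam e a) = 1 := by
  classical
  haveI : Fintype P := Fintype.ofFinite P
  rw [indLam, classInner_indFun_right P _ _ (isClassFunction_of_isCharacter (isCharacter_permChar α)),
    classInner, hP, Finset.sum_eq_single (1 : P) ?_ (by simp)]
  · rw [lamF_one, map_one, mul_one, OneMemClass.coe_one, perm_one hα,
      inv_mul_cancel₀ (Nat.cast_ne_zero.2 hp.out.ne_zero)]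
  · intro u _ hu
    rw [perm_of_order hα (zpowers_eq hP u.2 fun h => hu (Subtype.ext h)).2, zero_mul]

theorem inner_one_ind (a : ZMod p) :
    classInner (fun _ : G => (1 : ℂ)) (indLam e a) = if a = 0 then 1 else 0 := by
  haveI : Fintype P := Fintype.ofFinite P
  rw [indLam, classInner_indFun_right P _ _ (fun _ _ => rfl), classInner, hP]
  simp only [one_mul, lamF_conj, sum_lamF, neg_eq_zero]
  have hpne : (p : ℂ) ≠ 0 := Nat.cast_ne_zero.2 hp.out.ne_zero
  split_ifs <;> simp [hpne]

theorem inner_ind_perm (a : ZMod p) : classInner (indLam e a) (permChar G α) = 1 := by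
  rw [← classInner_conj, inner_perm_ind hα hp2 hP hN e a, map_one]

theorem inner_ind_one (a : ZMod p) :
    classInner (indLam e a) (fun _ : G => (1 : ℂ)) = if a = 0 then 1 else 0 := by
  rw [← classInner_conj, inner_one_ind hα hp2 hP hN e a]
  split_ifs <;> simp

variable [h2t : MulAction.IsMultiplyPretransitive G α 2]

theorem basic_inners :
    classInner (permChar G α) (fun _ : G => (1 : ℂ)) = 1 ∧
      classInner (fun _ : G => (1 : ℂ)) (permChar G α) = 1 ∧
      classInner (permChar G α) (permChar G α) = 2 ∧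
      classInner (fun _ : G => (1 : ℂ)) (fun _ : G => (1 : ℂ)) = 1 := by
  haveI : IsPretransitive G α := isPretransitive_of_is_two_pretransitive
  have hX : 2 ≤ Nat.card α := by rw [Nat.card_eq_fintype_card, hα]; exact hp.out.two_le
  have h1 : classInner (permChar G α) (fun _ : G => (1 : ℂ)) = 1 := by
    rw [classInner_permChar_one]
    haveI : Subsingleton (MulAction.orbitRel.Quotient G α) :=
      (MulAction.pretransitive_iff_subsingleton_quotient G α).1 inferInstance
    haveI : Nonempty α := Fintype.card_pos_iff.1 (by rw [hα]; exact hp.out.pos)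
    rw [Nat.card_of_subsingleton (Quotient.mk _ (Classical.arbitrary α)), Nat.cast_one]
  refine ⟨h1, by rw [← classInner_conj, h1, map_one], ?_, ?_⟩
  · rw [classInner_permChar_self, (card_orbits_prod_eq_two_iff α hX).2 h2t]; norm_num
  · exact classInner_irr_self (⟨_, isIrrCharacter_one⟩ : IrrCharacter G)

theorem inner_eta_perm {a : ZMod p} (ha : a ≠ 0) :
    classInner (eta e a) (permChar G α) = 0 ∧ classInner (eta e a) (fun _ : G => (1 : ℂ)) = 0 := by
  obtain ⟨b1, b2, b3, b4⟩ := basic_inners hα hp2 hP hN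
  simp only [eta, classInner_sub_left, classInner_add_left, inner_ind_perm hα hp2 hP hN e,
    inner_ind_one hα hp2 hP hN e, b1, b2, b3, b4, if_true, if_neg ha]
  norm_num

theorem inner_eta_eta {a b : ZMod p} (ha : a ≠ 0) (hb : b ≠ 0) :
    classInner (eta e a) (eta e b) = (if a = b then 1 else 0) + (if a = -b then 1 else 0) := by
  obtain ⟨b1, b2, b3, b4⟩ := basic_inners hα hp2 hP hN
  simp only [eta, classInner_sub_left, classInner_add_left, classInner_sub_right, classInner_add_right,
    inner_ind_perm hα hp2 hP hN e, inner_ind_one hα hp2 hP hN e, inner_perm_ind hα hp2 hP hN e,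
    inner_one_ind hα hp2 hP hN e, inner_ind_ind hα hp2 hP hN e, b1, b2, b3, b4, if_true, if_neg ha,
    if_neg hb, neg_zero, eq_comm (a := (0 : ZMod p)) (b := b), eq_comm (a := (0 : ZMod p)) (b := -b),
    neg_eq_zero]
  ring

theorem isIrr_eta {a : ZMod p} (ha : a ∈ halfSet p) : IsIrrCharacter G (eta e a) := by
  have ha0 : a ≠ 0 := (Finset.mem_filter.1 ha).2.1
  have hgen : ∀ b : ZMod p, IsGeneralizedCharacter G (indLam e b) := fun b =>
    isGeneralizedCharacter_of_isCharacter (isCharacter_indFun P (isCharacter_lamF e b))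
  have hone : IsGeneralizedCharacter G (fun _ : G => (1 : ℂ)) :=
    isGeneralizedCharacter_of_isCharacter (isCharacter_of_isIrr isIrrCharacter_one)
  refine isIrr_of_norm_one (isGeneralizedCharacter_sub (isGeneralizedCharacter_add
    (isGeneralizedCharacter_sub (isGeneralizedCharacter_of_isCharacter (isCharacter_permChar α))
      (isGeneralizedCharacter_add hone hone)) (hgen 0)) (hgen a)) ?_ ?_
  · show classInner (eta e a) (eta e a) = 1
    rw [inner_eta_eta hα hp2 hP hN e ha0 ha0, if_pos rfl, if_neg (half_neg hp2 ha ha), add_zero]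
  · show (0 : ℝ) < (eta e a 1).re
    rw [eta_apply, perm_one hα, indLam_one, indLam_one]
    have h3 : (2 : ℝ) < p := by
      exact_mod_cast lt_of_le_of_ne hp.out.two_le (Ne.symm hp2)
    simpa using h3

theorem isIrr_phi : IsIrrCharacter G (fun g => permChar G α g - 1) := by
  haveI : IsPretransitive G α := isPretransitive_of_is_two_pretransitive
  exact (isIrr_permChar_sub_one_iff α (by rw [Nat.card_eq_fintype_card, hα]; exact hp.out.two_le)).2 h2t

/-- The characters of the principal block. -/
noncomputable def known : Option (Option (halfSet p)) → IrrCharacter G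
  | none => ⟨_, isIrrCharacter_one⟩
  | some none => ⟨_, isIrr_phi hα hp2 hP hN⟩
  | some (some a) => ⟨_, isIrr_eta hα hp2 hP hN e a.2⟩

theorem known_injective : Function.Injective (known hα hp2 hP hN e) := by
  obtain ⟨b1, b2, b3, b4⟩ := basic_inners hα hp2 hP hN
  have hφ : classInner (fun g => permChar G α g - 1) (fun _ : G => (1 : ℂ)) = 0 := by
    rw [show (fun g => permChar G α g - 1) = permChar G α - (fun _ : G => (1 : ℂ)) from rfl,
      classInner_sub_left, b1, b4, sub_self]
  have hηφ : ∀ a : halfSet p, classInner (eta e a.1) (fun g => permChar G α g - 1) = 0 := fun a => by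
    obtain ⟨h1, h2⟩ := inner_eta_perm hα hp2 hP hN e (Finset.mem_filter.1 a.2).2.1
    rw [show (fun g => permChar G α g - 1) = permChar G α - (fun _ : G => (1 : ℂ)) from rfl,
      classInner_sub_right, h1, h2, sub_self]
  have key : ∀ i j, known hα hp2 hP hN e i = known hα hp2 hP hN e j →
      classInner (known hα hp2 hP hN e i : G → ℂ) (known hα hp2 hP hN e j : G → ℂ) = 1 :=
    fun i j h => by rw [h]; exact classInner_irr_self _
  rintro (_ | _ | a) (_ | _ | b) h
  · rfl
  · have := key _ _ h.symm; simp only [known, hφ] at this; exact absurd this zero_ne_one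
  · have := key _ _ h.symm
    simp only [known, (inner_eta_perm hα hp2 hP hN e (Finset.mem_filter.1 b.2).2.1).2] at this
    exact absurd this zero_ne_one
  · have := key _ _ h; simp only [known, hφ] at this; exact absurd this zero_ne_one
  · rfl
  · have := key _ _ h.symm; simp only [known, hηφ] at this; exact absurd this zero_ne_one
  · have := key _ _ h
    simp only [known, (inner_eta_perm hα hp2 hP hN e (Finset.mem_filter.1 a.2).2.1).2] at this
    exact absurd this zero_ne_one
  · have := key _ _ h; simp only [known, hηφ] at this; exact absurd this zero_ne_one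
  · by_contra hne
    have := key _ _ h
    simp only [known, inner_eta_eta hα hp2 hP hN e (Finset.mem_filter.1 a.2).2.1 (Finset.mem_filter.1 b.2).2.1,
      if_neg (half_neg hp2 a.2 b.2)] at this
    rw [if_neg fun hab => hne (by rw [Subtype.ext hab]), add_zero] at this
    exact zero_ne_one this

omit h2t in
theorem eta_on {u : P} (hu : u ≠ 1) (a : ZMod p) :
    eta e a u = -(lamF e a u + lamF e (-a) u) := by
  rw [eta_apply, perm_of_order hα (zpowers_eq hP u.2 fun h => hu (Subtype.ext h)).2,
    indLam_on hα hp2 hP hN e 0 hu, indLam_on hα hp2 hP hN e a hu, neg_zero, lamF_zero]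
  ring

/-- Only these characters are non-zero on `P`. -/
theorem other_zero {u : P} (hu : u ≠ 1) (χ : IrrCharacter G)
    (hχ : χ ∉ Set.range (known hα hp2 hP hN e)) : (χ : G → ℂ) u = 0 := by
  classical
  have := Fintype.ofFinite (IrrCharacter G)
  have h1 : (u : G) ≠ 1 := fun h => hu (Subtype.ext h)
  have htot := sum_irr_mul_conj (u : G) (u : G)
  rw [if_pos (IsConj.refl _), centralizer_eq hα hP hN hp2 u.2 h1, hP] at htot
  let T : Finset (IrrCharacter G) := Finset.univ.image (known hα hp2 hP hN e)
  have hT : ∑ ψ ∈ T, (ψ : G → ℂ) u * conj ((ψ : G → ℂ) u) = (p : ℂ) := by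
    rw [Finset.sum_image fun x _ y _ h => known_injective hα hp2 hP hN e h, Fintype.sum_option,
      Fintype.sum_option]
    simp only [known, perm_of_order hα (zpowers_eq hP u.2 h1).2, eta_on hα hp2 hP hN e hu, map_neg,
      map_sub, map_add, map_one, map_zero, lamF_conj, neg_neg, one_mul]
    rw [Finset.sum_coe_sort (halfSet p) (fun a => -(lamF e a u + lamF e (-a) u) * -(lamF e (-a) u + lamF e a u))]
    have hsq : ∀ a : ZMod p, -(lamF e a u + lamF e (-a) u) * -(lamF e (-a) u + lamF e a u) =
        (lamF e (2 * a) u + lamF e (2 * -a) u) + 2 := fun a => by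
      have h2 : ∀ c d : ZMod p, lamF e c u * lamF e d u = lamF e (c + d) u := fun c d => by
        simp only [lamF, ← AddChar.map_add_eq_mul, add_mul]
      have h0 : lamF e (a + -a) u = 1 := by rw [add_neg_cancel, lamF_zero]
      rw [two_mul a, two_mul (-a), ← h2 a a, ← h2 (-a) (-a)]
      linear_combination 2 * (h2 a (-a)) + 2 * h0
    have h20 : (2 : ZMod p) ≠ 0 := fun h => by
      have h' : ((2 : ℕ) : ZMod p) = 0 := by exact_mod_cast h
      rw [ZMod.natCast_eq_zero_iff] at h'
      exact hp2 ((Nat.prime_dvd_prime_iff_eq hp.out Nat.prime_two).1 h')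
    rw [Finset.sum_congr rfl fun a _ => hsq a, Finset.sum_add_distrib,
      half_sum hp2 (fun a => lamF e (2 * a) u), sum_lamF_dual e hu h20, Finset.sum_const, nsmul_eq_mul,
      mul_zero, lamF_zero]
    linear_combination card_halfSet (p := p) hp2
  have hrest : ∑ ψ ∈ Finset.univ \ T, (ψ : G → ℂ) u * conj ((ψ : G → ℂ) u) = 0 := by
    have := Finset.sum_sdiff (f := fun ψ : IrrCharacter G => (ψ : G → ℂ) u * conj ((ψ : G → ℂ) u))
      (Finset.subset_univ T)
    rw [htot, hT] at this
    linear_combination this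
  have hr : ∑ ψ ∈ Finset.univ \ T, ‖(ψ : G → ℂ) u‖ ^ 2 = 0 := by
    have h := congrArg Complex.re hrest
    simpa [Complex.mul_conj', ← Complex.ofReal_pow] using h
  have := (Finset.sum_eq_zero_iff_of_nonneg fun i _ => by positivity).1 hr χ (by
    simp only [Finset.mem_sdiff, Finset.mem_univ, true_and, T, Finset.mem_image, not_exists]
    exact fun i hi => hχ ⟨i, hi⟩)
  simpa using this

include e in
/-- An involution fixes exactly one point. -/
theorem involution_fix {i : G} (hi : orderOf i = 2) : Nat.card (fixedBy α i) = 1 := by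
  classical
  by_contra hf
  haveI : Finite P := Nat.finite_of_card_ne_zero (hP ▸ hp.out.ne_zero)
  obtain ⟨u, hu⟩ : ∃ u : P, u ≠ 1 := by
    haveI : Nontrivial P := Finite.one_lt_card_iff_nontrivial.1 (hP ▸ hp.out.one_lt)
    exact exists_ne 1
  have h1 : (u : G) ≠ 1 := fun h => hu (Subtype.ext h)
  have hzero : classConst i i (u : G) = 0 := by
    rw [classConst, Nat.card_eq_zero]
    refine .inl ⟨fun q => ?_⟩
    obtain ⟨⟨x, y⟩, hx, hy, hxy⟩ := q
    simp only at hx hy hxy
    have sqz : ∀ z : G, IsConj i z → z * z = 1 := fun z hz => by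
      obtain ⟨k, rfl⟩ := isConj_iff.1 hz
      have : i * i = 1 := by rw [← sq, ← hi, pow_orderOf_eq_one]
      calc k * i * k⁻¹ * (k * i * k⁻¹) = k * (i * i) * k⁻¹ := by group
        _ = 1 := by rw [this]; group
    have xinv : x⁻¹ = x := inv_eq_of_mul_eq_one_right (sqz x hx)
    have yinv : y⁻¹ = y := inv_eq_of_mul_eq_one_right (sqz y hy)
    have hinv : x * (u : G) * x⁻¹ = (u : G)⁻¹ := by
      rw [← hxy, mul_inv_rev, ← mul_assoc x x y, sqz x hx, one_mul, yinv]
    have hle : Nat.card (fixedBy α x) ≤ 1 := by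
      rw [Finite.card_le_one_iff_subsingleton]
      exact ⟨fun a b => Subtype.ext (inverter_fix hα hP hp2 u.2 h1 hinv a.2 b.2)⟩
    have hxi : permChar G α x = permChar G α i :=
      (classFun_isConj (isClassFunction_of_isCharacter (isCharacter_permChar α)) hx).symm
    have hge : 1 ≤ Nat.card (fixedBy α x) := by
      obtain ⟨a, ha⟩ := Equiv.Perm.exists_fixed_point_of_prime (p := 2) (n := 1) (α := α)
        (by rw [hα]; exact fun hd => hp2 ((Nat.prime_dvd_prime_iff_eq Nat.prime_two hp.out).1 hd).symm)
        (σ := (x : Equiv.Perm α)) (by rw [pow_one, sq, ← Subgroup.coe_mul, sqz x hx, Subgroup.coe_one])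
      exact Nat.card_pos_iff.2 ⟨⟨⟨a, ha⟩⟩, inferInstance⟩
    exact hf ((Nat.cast_inj.1 hxi).symm.trans (le_antisymm hle hge))
  have hform := classConst_formula i i (u : G)
  rw [hzero, Nat.cast_zero] at hform
  have := Fintype.ofFinite (IrrCharacter G)
  rw [finsum_eq_sum_of_fintype] at hform
  have hne : ((Nat.card {x : G // IsConj i x} : ℂ) * (Nat.card {x : G // IsConj i x} : ℂ) / (Nat.card G : ℂ)) ≠ 0 := by
    have : 0 < Nat.card {x : G // IsConj i x} := Nat.card_pos_iff.2 ⟨⟨⟨i, IsConj.refl i⟩⟩, inferInstance⟩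
    have h0 : (Nat.card {x : G // IsConj i x} : ℂ) ≠ 0 := Nat.cast_ne_zero.2 this.ne'
    exact div_ne_zero (mul_ne_zero h0 h0) card_ne_zero'
  have hsum := (mul_eq_zero.1 hform.symm).resolve_left hne
  rw [← Finset.sum_subset (Finset.subset_univ (Finset.univ.image (known hα hp2 hP hN e))) (fun χ _ hχ => by
      rw [other_zero hα hp2 hP hN e hu χ (fun ⟨j, hj⟩ => hχ (Finset.mem_image.2 ⟨j, Finset.mem_univ j, hj⟩)),
        map_zero, mul_zero, zero_div]),
    Finset.sum_image fun x _ y _ h => known_injective hα hp2 hP hN e h, Fintype.sum_option,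
    Fintype.sum_option] at hsum
  obtain ⟨f, hfdef⟩ : ∃ f : ℕ, Nat.card (fixedBy α i) = f := ⟨_, rfl⟩
  have hpi : permChar G α i = (f : ℂ) := by rw [← hfdef]; rfl
  have hi1 : i ≠ 1 := fun h => by rw [h, orderOf_one] at hi; omega
  have hip : orderOf i ≠ p := by rw [hi]; exact fun h => hp2 h.symm
  have hei : ∀ a, eta e a i = (f : ℂ) - 2 := fun a => by
    rw [eta_apply, hpi, indLam_eq_zero hP e 0 hi1 hip, indLam_eq_zero hP e a hi1 hip]
    ring
  have he1 : ∀ a, eta e a 1 = (p : ℂ) - 2 := fun a => by
    rw [eta_apply, perm_one hα, indLam_one, indLam_one]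
    ring
  simp only [known, hpi, hei, he1, perm_one hα, perm_of_order hα (zpowers_eq hP u.2 h1).2,
    eta_on hα hp2 hP hN e hu, map_one, map_sub, map_zero, map_neg, map_add, lamF_conj, neg_neg,
    mul_one, div_one] at hsum
  rw [Finset.sum_coe_sort (halfSet p)
    (fun a => ((f : ℂ) - 2) * ((f : ℂ) - 2) * -(lamF e (-a) u + lamF e a u) / ((p : ℂ) - 2))] at hsum
  have hS : ∑ a ∈ halfSet p, (lamF e (-a) u + lamF e a u) = -1 := by
    have := half_sum hp2 (fun a => lamF e a u)
    rw [show (fun a => lamF e a u) = fun a => lamF e (1 * a) u by simp, sum_lamF_dual e hu one_ne_zero] at this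
    simp only [one_mul, lamF_zero] at this
    rw [← zero_sub (1 : ℂ), ← this]
    exact Finset.sum_congr rfl fun a _ => add_comm _ _
  rw [← Finset.sum_div, ← Finset.mul_sum, Finset.sum_neg_distrib, hS] at hsum
  have hp3 : 3 ≤ p := by have := hp.out.two_le; omega
  have d1 : ((p : ℂ) - 1) ≠ 0 := sub_ne_zero.2 (by exact_mod_cast (by omega : p ≠ 1))
  have d2 : ((p : ℂ) - 2) ≠ 0 := sub_ne_zero.2 (by exact_mod_cast (by omega : p ≠ 2))
  field_simp at hsum
  have hsq : ((p : ℂ) - f) ^ 2 = 0 := by linear_combination hsum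
  have hfp : f = p := by
    exact_mod_cast (sub_eq_zero.1 (pow_eq_zero_iff two_ne_zero |>.1 hsq)).symm
  refine hi1 (Subtype.ext (Equiv.ext fun a => ?_))
  have hall : fixedBy α i = Set.univ := Set.eq_of_subset_of_ncard_le (Set.subset_univ _) (by
    rw [Set.ncard_univ, ← Nat.card_coe_set_eq, hfdef, hfp, Nat.card_eq_fintype_card, hα]) (Set.toFinite _)
  exact (hall ▸ Set.mem_univ a : a ∈ fixedBy α i)

include e in
/-- The count of quadruples. -/
theorem quad_bound (h3 : ∑ g : G, (Nat.card (fixedBy α g)).descFactorial 3 = Nat.card G) :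
    Nat.card G * p ≤ 2 * ∑ g : G, (Nat.card (fixedBy α g)).descFactorial 4 + 3 * Nat.card G := by
  classical
  have := Fintype.ofFinite (IrrCharacter G)
  obtain ⟨b1, b2, b3, b4⟩ := basic_inners hα hp2 hP hN
  let Q : G → ℂ := fun g => permChar G α g * (permChar G α g - 1)
  have hQcf : IsClassFunction G Q := fun g h => by
    simp only [Q, isClassFunction_of_isCharacter (isCharacter_permChar α) g h]
  have hGne : (Nat.card G : ℂ) ≠ 0 := card_ne_zero'
  have s1 : ∑ g : G, permChar G α g = (Nat.card G : ℂ) := by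
    have h := b1
    rw [classInner, inv_mul_eq_iff_eq_mul₀ hGne] at h
    simpa using h
  have s2 : ∑ g : G, permChar G α g * permChar G α g = 2 * (Nat.card G : ℂ) := by
    have h := b3
    rw [classInner, inv_mul_eq_iff_eq_mul₀ hGne] at h
    simp only [conj_permChar] at h
    rw [h, mul_comm]
  have hd3 : ∀ n : ℕ, ((n.descFactorial 3 : ℕ) : ℂ) = (n : ℂ) * ((n : ℂ) - 1) * ((n : ℂ) - 2) := by
    intro n
    rcases n with _ | _ | _ | n <;> simp [Nat.descFactorial_succ]
    ring
  have hd4 : ∀ n : ℕ, ((n.descFactorial 4 : ℕ) : ℂ) =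
      (n : ℂ) * ((n : ℂ) - 1) * ((n : ℂ) - 2) * ((n : ℂ) - 3) := by
    intro n
    rcases n with _ | _ | _ | _ | n <;> simp [Nat.descFactorial_succ]
    ring
  have s3 : ∑ g : G, permChar G α g * (permChar G α g - 1) * (permChar G α g - 2) = (Nat.card G : ℂ) := by
    rw [← h3, Nat.cast_sum]
    exact Finset.sum_congr rfl fun g _ => (hd3 _).symm
  have hQ1 : classInner Q (fun _ : G => (1 : ℂ)) = 1 := by
    rw [classInner, inv_mul_eq_iff_eq_mul₀ hGne]
    simp only [Q, map_one, mul_one, mul_sub, Finset.sum_sub_distrib, s1, s2]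
    ring
  have hQp : classInner Q (permChar G α) = 3 := by
    rw [classInner, inv_mul_eq_iff_eq_mul₀ hGne]
    calc ∑ g : G, Q g * conj (permChar G α g)
        = ∑ g : G, (permChar G α g * (permChar G α g - 1) * (permChar G α g - 2)
          + 2 * (permChar G α g * permChar G α g) - 2 * permChar G α g) :=
          Finset.sum_congr rfl fun g _ => by rw [conj_permChar]; ring
      _ = _ := by
          rw [Finset.sum_sub_distrib, Finset.sum_add_distrib, s3, ← Finset.mul_sum, ← Finset.mul_sum, s1, s2]
          ring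
  have hQi : ∀ a, classInner Q (indLam e a) = (p : ℂ) - 1 := fun a => by
    haveI : Fintype P := Fintype.ofFinite P
    rw [indLam, classInner_indFun_right P _ _ hQcf, classInner, hP, Finset.sum_eq_single (1 : P) ?_ (by simp)]
    · simp only [Q, OneMemClass.coe_one, perm_one hα, lamF_one, map_one, mul_one]
      rw [← mul_assoc, inv_mul_cancel₀ (Nat.cast_ne_zero.2 hp.out.ne_zero), one_mul]
    · intro u _ hu
      simp only [Q, perm_of_order hα (zpowers_eq hP u.2 fun h => hu (Subtype.ext h)).2, zero_mul]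
  have hk : ∀ i, classInner Q (known hα hp2 hP hN e i : G → ℂ) =
      ((match i with | none => 1 | some none => 2 | some (some _) => 1 : ℕ) : ℂ) := by
    rintro (_ | _ | a)
    · simpa [known] using hQ1
    · show classInner Q (permChar G α - (fun _ : G => (1 : ℂ))) = _
      rw [classInner_sub_right, hQp, hQ1]
      norm_num
    · show classInner Q (eta e a.1) = _
      simp only [eta, classInner_sub_right, classInner_add_right, hQp, hQ1, hQi]
      norm_num
  have hnorm := classInner_expand (f := Q) (h := Q) hQcf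
  simp only [Complex.mul_conj', ← Complex.ofReal_pow, ← Complex.ofReal_sum] at hnorm
  rw [classInner_self, Complex.ofReal_inj] at hnorm
  have hlow : (5 : ℝ) + ((halfSet p).card : ℝ) ≤ ∑ χ : IrrCharacter G, ‖classInner Q (χ : G → ℂ)‖ ^ 2 := by
    refine le_trans (le_of_eq ?_) (Finset.sum_le_sum_of_subset_of_nonneg
      (Finset.subset_univ (Finset.univ.image (known hα hp2 hP hN e))) fun χ _ _ => by positivity)
    rw [Finset.sum_image fun x _ y _ h => known_injective hα hp2 hP hN e h, Fintype.sum_option,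
      Fintype.sum_option]
    simp only [hk]
    simp
    ring
  have hS : 2 * ((halfSet p).card : ℝ) = (p : ℝ) - 1 := by
    have := congrArg Complex.re (card_halfSet (p := p) hp2)
    simpa using this
  have hGpos : (0 : ℝ) < (Nat.card G : ℝ) := Nat.cast_pos.2 Nat.card_pos
  rw [inv_mul_eq_iff_eq_mul₀ hGpos.ne'] at hnorm
  have hexp : ∑ g : G, ‖Q g‖ ^ 2 = ((∑ g : G, (Nat.card (fixedBy α g)).descFactorial 4 : ℕ) : ℝ)
      + 4 * (Nat.card G : ℝ) + 2 * (Nat.card G : ℝ) := by
    have hc : ((∑ g : G, ‖Q g‖ ^ 2 : ℝ) : ℂ) = ((∑ g : G, (Nat.card (fixedBy α g)).descFactorial 4 : ℕ) : ℂ)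
      + 4 * (Nat.card G : ℂ) + 2 * (Nat.card G : ℂ) := by
      simp only [Complex.ofReal_sum, Complex.ofReal_pow, ← Complex.mul_conj', Nat.cast_sum, hd4, Q, map_mul,
        map_sub, map_one, conj_permChar]
      calc _ = ∑ g : G, (permChar G α g * (permChar G α g - 1) * (permChar G α g - 2) * (permChar G α g - 3)
            + 4 * (permChar G α g * (permChar G α g - 1) * (permChar G α g - 2))
            + 2 * (permChar G α g * permChar G α g) - 2 * permChar G α g) :=
            Finset.sum_congr rfl fun g _ => by ring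
        _ = _ := by
          rw [Finset.sum_sub_distrib, Finset.sum_add_distrib, Finset.sum_add_distrib, ← Finset.mul_sum,
            ← Finset.mul_sum, ← Finset.mul_sum, s1, s2, s3]
          simp only [permChar]
          ring
    exact_mod_cast hc
  have h1 := mul_le_mul_of_nonneg_left hlow hGpos.le
  rw [← hnorm, hexp] at h1
  have h2 : ((Nat.card G * p : ℕ) : ℝ) ≤
      ((2 * ∑ g : G, (Nat.card (fixedBy α g)).descFactorial 4 + 3 * Nat.card G : ℕ) : ℝ) := by
    push_cast at h1 ⊢
    nlinarith [h1, hS]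
  exact_mod_cast h2

end CfsgLib.Perm.TwoP
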