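/-
Triply transitive groups with many quadruple orbits and no involution fixing three points: three
points determine the identity.
-/
import Mathlib

set_option autoImplicit false
set_option linter.unusedSectionVars false

namespace CfsgLib.Perm.TwoP

open MulAction

variable {α : Type*} [Fintype α] [DecidableEq α] {G : Subgroup (Equiv.Perm α)} [Fintype G]

/-- The three point stabiliser. -/
def T3 (G : Subgroup (Equiv.Perm α)) (a b z : α) : Subgroup G :=
  stabilizer G a ⊓ stabilizer G b ⊓ stabilizer G z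

theorem mem_T3 {a b z : α} {g : G} : g ∈ T3 G a b z ↔ g • a = a ∧ g • b = b ∧ g • z = z := by
  simp [T3, and_assoc]

/-- The common fixed points. -/
noncomputable def fixSet (K : Subgroup G) : Finset α := by
  classical exact Finset.univ.filter fun w => ∀ g ∈ K, g • w = w

theorem mem_fixSet {K : Subgroup G} {w : α} : w ∈ fixSet K ↔ ∀ g ∈ K, g • w = w := by
  simp [fixSet]

/-- Conjugate triples have conjugate stabilisers. -/
theorem conj_data (h3 : IsMultiplyPretransitive G α 3) {a b z a' b' z' : α} (hab : a ≠ b) (haz : a ≠ z)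
    (hbz : b ≠ z) (hab' : a' ≠ b') (haz' : a' ≠ z') (hbz' : b' ≠ z') :
    ∃ k : G, T3 G a' b' z' = (T3 G a b z).map (MulAut.conj k).toMonoidHom ∧
      fixSet (T3 G a' b' z') = (fixSet (T3 G a b z)).image (fun w => k • w) := by
  classical
  haveI := h3
  let e₁ : Fin 3 ↪ α := ⟨![a, b, z], fun i j h => by fin_cases i <;> fin_cases j <;> simp_all⟩
  let e₂ : Fin 3 ↪ α := ⟨![a', b', z'], fun i j h => by fin_cases i <;> fin_cases j <;> simp_all⟩
  obtain ⟨k, hk⟩ := MulAction.exists_smul_eq G e₁ e₂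
  have ka : k • a = a' := congrArg (fun f : Fin 3 ↪ α => f 0) hk
  have kb : k • b = b' := congrArg (fun f : Fin 3 ↪ α => f 1) hk
  have kz : k • z = z' := congrArg (fun f : Fin 3 ↪ α => f 2) hk
  have hT : T3 G a' b' z' = (T3 G a b z).map (MulAut.conj k).toMonoidHom := by
    ext g
    rw [Subgroup.mem_map_equiv, MulAut.conj_symm_apply, mem_T3, mem_T3, ← ka, ← kb, ← kz]
    simp only [mul_smul, inv_smul_eq_iff]
  refine ⟨k, hT, ?_⟩
  ext w
  rw [hT, Finset.mem_image, mem_fixSet]
  constructor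
  · intro h
    refine ⟨k⁻¹ • w, mem_fixSet.2 fun g hg => ?_, smul_inv_smul _ _⟩
    have := h _ ⟨g, hg, rfl⟩
    rw [MulEquiv.coe_toMonoidHom, MulAut.conj_apply, mul_smul, mul_smul] at this
    rw [eq_inv_smul_iff]
    exact this
  · rintro ⟨v, hv, rfl⟩ g ⟨g', hg', rfl⟩
    rw [MulEquiv.coe_toMonoidHom, MulAut.conj_apply, mul_smul, mul_smul, inv_smul_smul,
      mem_fixSet.1 hv g' hg']

variable (h3 : IsMultiplyPretransitive G α 3)
  (hinv : ∀ i : G, orderOf i = 2 → Nat.card (fixedBy α i) = 1) (hn : 3 ≤ Fintype.card α)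

include h3 hn

set_option backward.isDefEq.respectTransparency false in
theorem card_embeddings (e : Fin 3 ↪ α) :
    Nat.card G = Fintype.card (Fin 3 ↪ α) * Nat.card (stabilizer G e) := by
  haveI := h3
  have ht : ∀ x y : Fin 3 ↪ α, ∃ g : G, g • x = y := fun x y => MulAction.exists_smul_eq G x y
  haveI : IsPretransitive G (Fin 3 ↪ α) := ⟨ht⟩
  rw [← (stabilizer G e).card_mul_index, index_stabilizer_of_transitive, Nat.card_eq_fintype_card (α := Fin 3 ↪ α),
    mul_comm]

set_option backward.isDefEq.respectTransparency false in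
theorem sum_desc_three : ∑ g : G, (Nat.card (fixedBy α g)).descFactorial 3 = Nat.card G := by
  classical
  haveI := h3
  have ht : ∀ x y : Fin 3 ↪ α, ∃ g : G, g • x = y := fun x y => MulAction.exists_smul_eq G x y
  haveI : IsPretransitive G (Fin 3 ↪ α) := ⟨ht⟩
  haveI : Nonempty (Fin 3 ↪ α) := Function.Embedding.nonempty_of_card_le (by simpa using hn)
  have h := MulAction.sum_card_fixedBy_eq_card_orbits_mul_card_group G (Fin 3 ↪ α)
  haveI : Subsingleton (MulAction.orbitRel.Quotient G (Fin 3 ↪ α)) :=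
    (MulAction.pretransitive_iff_subsingleton_quotient G _).1 inferInstance
  haveI : Nonempty (MulAction.orbitRel.Quotient G (Fin 3 ↪ α)) := ⟨Quotient.mk _ (Classical.arbitrary _)⟩
  simp only [← Nat.card_eq_fintype_card] at h
  rw [Nat.card_unique, one_mul] at h
  rw [← h]
  refine Finset.sum_congr rfl fun g _ => ?_
  rw [Nat.card_eq_fintype_card, Nat.card_eq_fintype_card,
    show (Fintype.card (fixedBy α g)).descFactorial 3 = Fintype.card (Fin 3 ↪ fixedBy α g) by
      rw [Fintype.card_embedding_eq, Fintype.card_fin]]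
  refine Fintype.card_congr
    { toFun := fun f => ⟨f.trans (Function.Embedding.subtype _), ?_⟩
      invFun := fun f => ⟨fun i => ⟨f.1 i, congrArg (fun e : Fin 3 ↪ α => e i) f.2⟩,
        fun i j h => f.1.injective (congrArg Subtype.val h)⟩
      left_inv := fun f => rfl
      right_inv := fun f => rfl }
  exact DFunLike.ext _ _ fun i => (f i).2

include hinv

/-- The stabiliser of three points has odd index over any smaller point stabiliser. -/
theorem three_mul_le (e : Fin 3 ↪ α) (w : α) (hw : ∃ g ∈ stabilizer G e, g • w ≠ w) :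
    3 * Nat.card ↥(stabilizer G e ⊓ stabilizer G w) ≤ Nat.card (stabilizer G e) := by
  classical
  have hodd : ¬ 2 ∣ Nat.card (stabilizer G e) := by
    intro h2
    obtain ⟨i, hi⟩ := exists_prime_orderOf_dvd_card' 2 h2
    have h1 := hinv (i : G) (by rw [Subgroup.orderOf_coe, hi])
    have hle : 3 ≤ Nat.card (fixedBy α (i : G)) := by
      have := Nat.card_le_card_of_injective
        (fun k : Fin 3 => (⟨e k, congrArg (fun f : Fin 3 ↪ α => f k) i.2⟩ : fixedBy α (i : G)))
        fun k l h => e.injective (congrArg Subtype.val h)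
      rwa [Nat.card_fin] at this
    omega
  obtain ⟨g, hg, hgw⟩ := hw
  have hle : stabilizer G e ⊓ stabilizer G w ≤ stabilizer G e := inf_le_left
  have hmul := (Subgroup.subgroupOf (stabilizer G e ⊓ stabilizer G w) (stabilizer G e)).card_mul_index
  rw [Nat.card_congr (Subgroup.subgroupOfEquivOfLe hle).toEquiv] at hmul
  obtain ⟨d, hd⟩ : ∃ d, (Subgroup.subgroupOf (stabilizer G e ⊓ stabilizer G w) (stabilizer G e)).index = d :=
    ⟨_, rfl⟩
  rw [hd] at hmul
  have hd0 : d ≠ 0 := fun h => by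
    rw [h, mul_zero] at hmul
    exact Nat.card_pos.ne' hmul.symm
  have hd1 : d ≠ 1 := fun h => by
    rw [h, Subgroup.index_eq_one, Subgroup.subgroupOf_eq_top] at hd
    exact hgw (hd hg).2
  have hd2 : d ≠ 2 := fun h => hodd ⟨Nat.card ↥(stabilizer G e ⊓ stabilizer G w), by
    rw [← hmul, h, mul_comm]⟩
  rw [← hmul, mul_comm 3]
  exact Nat.mul_le_mul_left _ (by omega)

variable (hq : Nat.card G * Fintype.card α ≤
  2 * ∑ g : G, (Nat.card (fixedBy α g)).descFactorial 4 + 3 * Nat.card G)

include hq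

theorem fixSet_large {a b z : α} (hab : a ≠ b) (haz : a ≠ z) (hbz : b ≠ z) :
    Fintype.card α + 9 ≤ 4 * (fixSet (T3 G a b z)).card := by
  classical
  obtain ⟨F, hF⟩ : ∃ F, (fixSet (T3 G a b z)).card = F := ⟨_, rfl⟩
  obtain ⟨n, hnn⟩ : ∃ n, Fintype.card α = n := ⟨_, rfl⟩
  have hFn : F ≤ n := hF ▸ hnn ▸ Finset.card_le_univ _
  have hstab : ∀ e : Fin 3 ↪ α, stabilizer G e = T3 G (e 0) (e 1) (e 2) := fun e => by
    ext g
    rw [mem_T3, mem_stabilizer_iff]
    constructor
    · intro h
      exact ⟨congrArg (fun f : Fin 3 ↪ α => f 0) h, congrArg (fun f : Fin 3 ↪ α => f 1) h,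
        congrArg (fun f : Fin 3 ↪ α => f 2) h⟩
    · rintro ⟨h0, h1, h2⟩
      refine DFunLike.ext _ _ fun i => ?_
      fin_cases i
      · exact h0
      · exact h1
      · exact h2
  have hfix : ∀ e : Fin 3 ↪ α, (fixSet (stabilizer G e)).card = F := fun e => by
    obtain ⟨k, -, hk⟩ := conj_data h3 hab haz hbz
      (e.injective.ne (show (0 : Fin 3) ≠ 1 by decide)) (e.injective.ne (show (0 : Fin 3) ≠ 2 by decide))
      (e.injective.ne (show (1 : Fin 3) ≠ 2 by decide))
    rw [hstab, hk, Finset.card_image_of_injective _ (MulAction.injective k), hF]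
  let R : (Fin 3 ↪ α) → Finset α := fun e => Finset.univ.map e
  have hR : ∀ e, R e ⊆ fixSet (stabilizer G e) := fun e w hw => by
    obtain ⟨i, -, rfl⟩ := Finset.mem_map.1 hw
    exact mem_fixSet.2 fun g hg => congrArg (fun f : Fin 3 ↪ α => f i) hg
  have hRc : ∀ e, (R e).card = 3 := fun e => by simp [R]
  have hF3 : 3 ≤ F := by
    let e₁ : Fin 3 ↪ α := ⟨![a, b, z], fun i j h => by fin_cases i <;> fin_cases j <;> simp_all⟩
    calc 3 = (R e₁).card := (hRc e₁).symm
      _ ≤ (fixSet (stabilizer G e₁)).card := Finset.card_le_card (hR e₁)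
      _ = F := hfix e₁
  have hS : ∀ e : Fin 3 ↪ α,
      3 * ∑ w ∈ Finset.univ \ R e, Nat.card ↥(stabilizer G e ⊓ stabilizer G w) ≤
        Nat.card (stabilizer G e) * (3 * (F - 3) + (n - F)) := by
    intro e
    have hsub : fixSet (stabilizer G e) \ R e ⊆ Finset.univ \ R e :=
      Finset.sdiff_subset_sdiff (Finset.subset_univ _) (le_refl _)
    have hAc : (fixSet (stabilizer G e) \ R e).card = F - 3 := by
      rw [Finset.card_sdiff_of_subset (hR e), hfix, hRc]
    have hBc : ((Finset.univ \ R e) \ (fixSet (stabilizer G e) \ R e)).card = n - F := by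
      rw [Finset.card_sdiff_of_subset hsub, hAc, Finset.card_sdiff_of_subset (Finset.subset_univ _),
        Finset.card_univ, hRc, hnn]
      omega
    rw [← Finset.sum_sdiff hsub, mul_add, Finset.mul_sum, Finset.mul_sum, Nat.mul_add]
    rw [add_comm (Nat.card (stabilizer G e) * (3 * (F - 3)))]
    refine add_le_add ?_ ?_
    · refine le_trans (Finset.sum_le_card_nsmul _ _ (Nat.card (stabilizer G e)) fun w hw => ?_) ?_
      · refine three_mul_le h3 hinv hn e w ?_
        simp only [Finset.mem_sdiff, Finset.mem_univ, true_and] at hw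
        by_contra hcon
        push Not at hcon
        exact hw.2 ⟨mem_fixSet.2 hcon, hw.1⟩
      · rw [hBc, smul_eq_mul, mul_comm]
    · refine le_trans (Finset.sum_le_card_nsmul _ _ (3 * Nat.card (stabilizer G e)) fun w _ => ?_) ?_
      · exact Nat.mul_le_mul_left 3 (Subgroup.card_le_of_le inf_le_left)
      · rw [hAc, smul_eq_mul]
        exact le_of_eq (by ring)
  have hdd : ∑ g : G, (Nat.card (fixedBy α g)).descFactorial 4 =
      ∑ e : Fin 3 ↪ α, ∑ w ∈ Finset.univ \ R e, Nat.card ↥(stabilizer G e ⊓ stabilizer G w) := by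
    have hc : ∀ (e : Fin 3 ↪ α) (w : α), Nat.card ↥(stabilizer G e ⊓ stabilizer G w) =
        ∑ g : G, if g • e = e ∧ g • w = w then 1 else 0 := fun e w => by
      rw [← Finset.card_filter, ← Fintype.card_subtype, ← Nat.card_eq_fintype_card]
      exact Nat.card_congr (Equiv.subtypeEquivRight (fun (g : G) => Iff.rfl))
    simp only [hc]
    rw [Finset.sum_congr rfl fun e _ => Finset.sum_comm, Finset.sum_comm]
    refine Finset.sum_congr rfl fun g _ => ?_
    have hf : Nat.card (fixedBy α g) = (Finset.univ.filter fun x : α => g • x = x).card := by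
      rw [Nat.card_eq_fintype_card, ← Fintype.card_subtype]
      rfl
    have hcount : ∀ e : Fin 3 ↪ α, (∑ w ∈ Finset.univ \ R e, if g • e = e ∧ g • w = w then 1 else 0) =
        if g • e = e then Nat.card (fixedBy α g) - 3 else 0 := fun e => by
      by_cases hge : g • e = e
      · simp only [hge, true_and, if_true]
        rw [← Finset.card_filter, hf]
        have hs : R e ⊆ Finset.univ.filter fun x => g • x = x := fun w hw => by
          obtain ⟨i, -, rfl⟩ := Finset.mem_map.1 hw
          exact Finset.mem_filter.2 ⟨Finset.mem_univ _, congrArg (fun f : Fin 3 ↪ α => f i) hge⟩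
        rw [← hRc e, ← Finset.card_sdiff_of_subset hs]
        congr 1
        ext w
        simp [and_comm]
      · simp [hge]
    rw [Finset.sum_congr rfl fun e _ => hcount e, ← Finset.sum_filter, Finset.sum_const, smul_eq_mul,
      Nat.descFactorial_succ, mul_comm]
    congr 1
    rw [← Fintype.card_subtype, Nat.card_eq_fintype_card,
      show (Fintype.card (fixedBy α g)).descFactorial 3 = Fintype.card (Fin 3 ↪ fixedBy α g) by
        rw [Fintype.card_embedding_eq, Fintype.card_fin]]
    refine Fintype.card_congr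
      { toFun := fun f => ⟨f.trans (Function.Embedding.subtype _), DFunLike.ext _ _ fun i => (f i).2⟩
        invFun := fun f => ⟨fun i => ⟨f.1 i, congrArg (fun e : Fin 3 ↪ α => e i) f.2⟩,
          fun i j h => f.1.injective (congrArg Subtype.val h)⟩
        left_inv := fun f => rfl
        right_inv := fun f => rfl }
  have hE : ∀ e : Fin 3 ↪ α, 3 * ∑ w ∈ Finset.univ \ R e, Nat.card ↥(stabilizer G e ⊓ stabilizer G w) *
      Fintype.card (Fin 3 ↪ α) ≤ Nat.card G * (3 * (F - 3) + (n - F)) := fun e => by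
    rw [card_embeddings h3 hn e, ← Finset.sum_mul, ← mul_assoc, mul_comm (Fintype.card _) (Nat.card _),
      mul_right_comm (Nat.card _)]
    exact Nat.mul_le_mul_right _ (hS e)
  have htot : 3 * (∑ g : G, (Nat.card (fixedBy α g)).descFactorial 4) * Fintype.card (Fin 3 ↪ α) ≤
      Nat.card G * (3 * (F - 3) + (n - F)) * Fintype.card (Fin 3 ↪ α) := by
    rw [hdd, Finset.mul_sum, Finset.sum_mul]
    refine le_trans (Finset.sum_le_card_nsmul _ _ _ fun e _ => le_of_eq_of_le ?_ (hE e)) ?_
    · rw [mul_assoc, Finset.sum_mul]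
    · rw [Finset.card_univ, smul_eq_mul, mul_comm]
  have hN : 0 < Fintype.card (Fin 3 ↪ α) := Fintype.card_pos_iff.2
    (Function.Embedding.nonempty_of_card_le (by simpa using hn))
  have h4 := Nat.le_of_mul_le_mul_right htot hN
  rw [hnn] at hq
  have h5 : Nat.card G * (3 * n) ≤ Nat.card G * (2 * (3 * (F - 3) + (n - F)) + 9) := by
    calc Nat.card G * (3 * n) = 3 * (Nat.card G * n) := by ring
      _ ≤ 3 * (2 * ∑ g : G, (Nat.card (fixedBy α g)).descFactorial 4 + 3 * Nat.card G) :=
          Nat.mul_le_mul_left 3 hq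
      _ = 2 * (3 * ∑ g : G, (Nat.card (fixedBy α g)).descFactorial 4) + 9 * Nat.card G := by ring
      _ ≤ 2 * (Nat.card G * (3 * (F - 3) + (n - F))) + 9 * Nat.card G := by omega
      _ = _ := by ring
  have h6 := Nat.le_of_mul_le_mul_left h5 Nat.card_pos
  omega

/-- Only the identity fixes three points. -/
theorem eq_one_of_three_fixed (g : G) (hg : 3 ≤ Nat.card (fixedBy α g)) : g = 1 := by
  classical
  rw [Nat.card_eq_fintype_card] at hg
  obtain ⟨e⟩ := Function.Embedding.nonempty_of_card_le (α := Fin 3) (β := fixedBy α g) (by simpa using hg)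
  obtain ⟨a, ha⟩ : ∃ a, (e 0 : α) = a := ⟨_, rfl⟩
  obtain ⟨b, hb⟩ : ∃ b, (e 1 : α) = b := ⟨_, rfl⟩
  obtain ⟨z, hz⟩ : ∃ z, (e 2 : α) = z := ⟨_, rfl⟩
  have hne : ∀ i j : Fin 3, i ≠ j → (e i : α) ≠ e j := fun i j h hc => h (e.injective (Subtype.ext hc))
  have hab : a ≠ b := ha ▸ hb ▸ hne 0 1 (by decide)
  have haz : a ≠ z := ha ▸ hz ▸ hne 0 2 (by decide)
  have hbz : b ≠ z := hb ▸ hz ▸ hne 1 2 (by decide)
  have hgT : g ∈ T3 G a b z := mem_T3.2 ⟨ha ▸ (e 0).2, hb ▸ (e 1).2, hz ▸ (e 2).2⟩
  -- three fixed points of the stabiliser give back the stabiliser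
  have key : ∀ {x y u : α} {K : Subgroup G}, (∃ x₀ y₀ u₀, x₀ ≠ y₀ ∧ x₀ ≠ u₀ ∧ y₀ ≠ u₀ ∧ K = T3 G x₀ y₀ u₀) →
      x ≠ y → x ≠ u → y ≠ u → x ∈ fixSet K → y ∈ fixSet K → u ∈ fixSet K → T3 G x y u = K := by
    rintro x y u K ⟨x₀, y₀, u₀, h1, h2, h3', rfl⟩ hxy hxu hyu hx hy hu
    obtain ⟨k, hk, -⟩ := conj_data h3 h1 h2 h3' hxy hxu hyu
    refine (Subgroup.eq_of_le_of_card_ge (fun v hv => ?_) ?_).symm
    · exact mem_T3.2 ⟨mem_fixSet.1 hx v hv, mem_fixSet.1 hy v hv, mem_fixSet.1 hu v hv⟩
    · rw [hk, Nat.card_congr ((T3 G x₀ y₀ u₀).equivMapOfInjective _ (MulAut.conj k).injective).toEquiv.symm]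
  have hall : ∀ w : α, w ∈ fixSet (T3 G a b z) := by
    by_contra hcon
    push Not at hcon
    obtain ⟨w, hw⟩ := hcon
    have hmem : a ∈ fixSet (T3 G a b z) := mem_fixSet.2 fun v hv => (mem_T3.1 hv).1
    have hwa : w ≠ a := fun h => hw (h ▸ hmem)
    obtain ⟨Y, hY⟩ : ∃ Y, (fixSet (T3 G a b z)).erase a = Y := ⟨_, rfl⟩
    let Bl : α → Finset α := fun y => ((fixSet (T3 G a w y)).erase a).erase w
    have hYw : ∀ y ∈ Y, y ≠ a ∧ w ≠ y ∧ y ∈ fixSet (T3 G a b z) := fun y hy => by
      rw [← hY, Finset.mem_erase] at hy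
      exact ⟨hy.1, fun h => hw (h ▸ hy.2), hy.2⟩
    have hdisj : (Y : Set α).PairwiseDisjoint Bl := by
      intro y hy y' hy' hne'
      rw [Function.onFun, Finset.disjoint_left]
      intro v hv hv'
      simp only [Bl, Finset.mem_erase] at hv hv'
      obtain ⟨hya, hwy, hyF⟩ := hYw y hy
      obtain ⟨hya', hwy', hyF'⟩ := hYw y' hy'
      have e1 : T3 G a w v = T3 G a w y := key ⟨a, w, y, hwa.symm, hya.symm, hwy, rfl⟩ hwa.symm
        hv.2.1.symm hv.1.symm (mem_fixSet.2 fun t ht => (mem_T3.1 ht).1)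
        (mem_fixSet.2 fun t ht => (mem_T3.1 ht).2.1) hv.2.2
      have e2 : T3 G a w v = T3 G a w y' := key ⟨a, w, y', hwa.symm, hya'.symm, hwy', rfl⟩ hwa.symm
        hv'.2.1.symm hv'.1.symm (mem_fixSet.2 fun t ht => (mem_T3.1 ht).1)
        (mem_fixSet.2 fun t ht => (mem_T3.1 ht).2.1) hv'.2.2
      have e3 : T3 G a y y' = T3 G a b z := key ⟨a, b, z, hab, haz, hbz, rfl⟩ hya.symm hya'.symm hne'
        hmem hyF hyF'
      have e4 : T3 G a y y' = T3 G a w y := key ⟨a, w, y, hwa.symm, hya.symm, hwy, rfl⟩ hya.symm hya'.symm hne'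
        (mem_fixSet.2 fun t ht => (mem_T3.1 ht).1) (mem_fixSet.2 fun t ht => (mem_T3.1 ht).2.2)
        (mem_fixSet.2 fun t ht => by rw [← e1, e2] at ht; exact (mem_T3.1 ht).2.2)
      exact hw (mem_fixSet.2 fun t ht => by rw [← e3, e4] at ht; exact (mem_T3.1 ht).2.1)
    have hsize : ∀ y ∈ Y, Fintype.card α + 1 ≤ 4 * (Bl y).card := fun y hy => by
      obtain ⟨hya, hwy, -⟩ := hYw y hy
      have := fixSet_large h3 hinv hn hq hwa.symm hya.symm hwy
      have h1 : (fixSet (T3 G a w y)).card ≤ ((fixSet (T3 G a w y)).erase a).card + 1 := by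
        have := Finset.pred_card_le_card_erase (a := a) (s := fixSet (T3 G a w y)); omega
      have h2 : ((fixSet (T3 G a w y)).erase a).card ≤ (Bl y).card + 1 := by
        have := Finset.pred_card_le_card_erase (a := w) (s := (fixSet (T3 G a w y)).erase a)
        simp only [Bl]; omega
      omega
    have hsub : Y.biUnion Bl ⊆ (Finset.univ.erase a).erase w := fun v hv => by
      obtain ⟨y, -, hv⟩ := Finset.mem_biUnion.1 hv
      simp only [Bl, Finset.mem_erase] at hv
      exact Finset.mem_erase.2 ⟨hv.1, Finset.mem_erase.2 ⟨hv.2.1, Finset.mem_univ _⟩⟩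
    have hle := Finset.card_le_card hsub
    rw [Finset.card_biUnion hdisj, Finset.card_erase_of_mem (Finset.mem_erase.2 ⟨hwa, Finset.mem_univ _⟩),
      Finset.card_erase_of_mem (Finset.mem_univ _), Finset.card_univ] at hle
    have hYc : (fixSet (T3 G a b z)).card = Y.card + 1 := by
      rw [← hY, Finset.card_erase_add_one hmem]
    have hbig := fixSet_large h3 hinv hn hq hab haz hbz
    have hsum : Y.card * (Fintype.card α + 1) ≤ 4 * (Fintype.card α - 1 - 1) := by
      refine le_trans ?_ (Nat.mul_le_mul_left 4 hle)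
      rw [Finset.mul_sum, ← smul_eq_mul, ← Finset.sum_const]
      exact Finset.sum_le_sum hsize
    have h1 : (Fintype.card α + 5) * (Fintype.card α + 1) ≤ 4 * Y.card * (Fintype.card α + 1) :=
      Nat.mul_le_mul_right _ (by omega)
    have h2 : 4 * Y.card * (Fintype.card α + 1) ≤ 16 * Fintype.card α - 32 := by
      rw [mul_assoc]; omega
    have h3n : (Fintype.card α + 5) * (Fintype.card α + 1) + 32 ≤ 16 * Fintype.card α := by omega
    nlinarith [sq_nonneg ((Fintype.card α : ℤ) - 5)]
  exact Subtype.ext (Equiv.ext fun w => mem_fixSet.1 (hall w) g hgT)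

end CfsgLib.Perm.TwoP
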