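/-
A permutation group of prime degree whose Sylow normalizer has order `2p`.
-/
import Cfsg.Agent.Lib.Perm.PrimeTwoP.Chars
import Cfsg.Agent.Lib.Perm.PrimeTwoP.Design
import Cfsg.Agent.S0676
import Cfsg.Agent.S4702

set_option autoImplicit false
set_option linter.unusedSectionVars false

namespace CfsgLib.Perm.TwoP

open MulAction

universe u

variable {α : Type u} [Fintype α] [DecidableEq α] {p : ℕ} [hp : Fact p.Prime]

/-- A solvable transitive group of prime degree has a normal Sylow subgroup of order `p`. -/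
theorem sylow_normal_of_solvable (hα : Fintype.card α = p) (G : Subgroup (Equiv.Perm α))
    [IsPretransitive G α] (hs : Group.IsSolvable G) (P : Sylow p G) (hP : Nat.card P = p) :
    (P : Subgroup G).Normal := by
  classical
  haveI := hs
  haveI hprim : IsPreprimitive G α := IsPreprimitive.of_prime_card (by
    rw [Nat.card_eq_fintype_card, hα]; exact hp.out)
  obtain ⟨k, hk⟩ := (Group.isSolvable_def G).1 hs
  have hne : derivedSeries G 0 ≠ ⊥ := by
    rw [derivedSeries_zero]
    intro h
    have := congrArg (fun H : Subgroup G => Nat.card H) h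
    simp only [Subgroup.card_top, Subgroup.card_bot] at this
    have hd := Subgroup.card_subgroup_dvd_card (P : Subgroup G)
    rw [this, hP] at hd
    exact hp.out.not_dvd_one hd
  obtain ⟨m, hm, hm'⟩ : ∃ m, derivedSeries G m ≠ ⊥ ∧ derivedSeries G (m + 1) = ⊥ := by
    by_contra hcon
    push Not at hcon
    have : ∀ j, derivedSeries G j ≠ ⊥ := fun j => by
      induction j with
      | zero => exact hne
      | succ j ih => exact hcon j ih
    exact this k hk
  obtain ⟨A, hA⟩ : ∃ A, derivedSeries G m = A := ⟨_, rfl⟩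
  haveI hAn : A.Normal := hA ▸ derivedSeries_normal G m
  have hcomm : ∀ x ∈ A, ∀ y ∈ A, x * y = y * x := by
    rw [derivedSeries_succ, hA, Subgroup.commutator_eq_bot_iff_le_centralizer] at hm'
    exact fun x hx y hy => (hm' hy x hx)
  have hfix : fixedPoints A α ≠ Set.univ := by
    intro h
    refine hm (hA ▸ (Subgroup.eq_bot_iff_forall A).2 fun a ha => Subtype.ext (Equiv.ext fun x => ?_))
    have hx : x ∈ fixedPoints A α := h ▸ Set.mem_univ x
    exact hx ⟨a, ha⟩
  haveI hAt : IsPretransitive A α := IsQuasiPreprimitive.isPretransitive_of_normal hfix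
  obtain ⟨x₀⟩ : Nonempty α := Fintype.card_pos_iff.1 (by rw [hα]; exact hp.out.pos)
  have hbot : stabilizer A x₀ = ⊥ := by
    refine (Subgroup.eq_bot_iff_forall _).2 fun a ha => Subtype.ext (Subtype.ext (Equiv.ext fun y => ?_))
    obtain ⟨b, rfl⟩ := MulAction.exists_smul_eq A x₀ y
    show (a : G) • ((b : G) • x₀) = (b : G) • x₀
    rw [← mul_smul, hcomm a a.2 b b.2, mul_smul]
    exact congrArg _ ha
  have hcard : Nat.card A = p := by
    have h := index_stabilizer_of_transitive A x₀
    rw [hbot, Subgroup.index_bot, Nat.card_eq_fintype_card (α := α), hα] at h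
    exact h
  have hle : A ≤ (P : Subgroup G) := by
    obtain ⟨Q, hQ⟩ := (IsPGroup.of_card (n := 1) (show Nat.card A = p ^ 1 by rw [pow_one, hcard])).exists_le_sylow
    obtain ⟨g, rfl⟩ := MulAction.exists_smul_eq G Q P
    intro a ha
    rw [Sylow.smul_def, Sylow.pointwise_smul_def, Subgroup.mem_smul_pointwise_iff_exists]
    refine ⟨g⁻¹ * a * g⁻¹⁻¹, hQ (hAn.conj_mem a ha g⁻¹), ?_⟩
    show g * (g⁻¹ * a * g⁻¹⁻¹) * g⁻¹ = a
    group
  rw [← Subgroup.eq_of_le_of_card_ge hle (le_of_eq (hP.trans hcard.symm))]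
  exact hAn

theorem main (hp2 : 2 < p) (hα : Fintype.card α = p) (G : Subgroup (Equiv.Perm α)) (P : Sylow p G)
    (hN : Nat.card (Subgroup.normalizer ((P : Subgroup G) : Set G)) = 2 * p) :
    (P : Subgroup G).Normal ∨ ∃ (a : ℕ) (F : Type) (_ : Field F) (_ : Fintype F), p = 2 ^ a + 1 ∧
      Fintype.card F = 2 ^ a ∧ Nonempty (G ≃* Matrix.SpecialLinearGroup (Fin 2) F) := by
  classical
  by_cases hPn : (P : Subgroup G).Normal
  · exact Or.inl hPn
  right
  haveI : Fintype G := Fintype.ofFinite G
  have hP : Nat.card P = p := by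
    have hd : Nat.card P ∣ 2 * p := hN ▸ Subgroup.card_dvd_of_le Subgroup.le_normalizer
    have hk := P.card_eq_multiplicity
    have hpG : p ∣ Nat.card G := (dvd_mul_left p 2).trans (hN ▸ Subgroup.card_subgroup_dvd_card _)
    have h1 : 1 ≤ (Nat.card G).factorization p := hp.out.factorization_pos_of_dvd Nat.card_pos.ne' hpG
    have h2 : (Nat.card G).factorization p ≤ 1 := by
      by_contra hgt
      have : p ^ 2 ∣ 2 * p := (pow_dvd_pow p (show 2 ≤ (Nat.card G).factorization p by omega)).trans (hk ▸ hd)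
      rw [sq] at this
      have := Nat.le_of_dvd two_pos (Nat.dvd_of_mul_dvd_mul_right hp.out.pos this)
      omega
    rw [hk, show (Nat.card G).factorization p = 1 by omega, pow_one]
  obtain ⟨c, hc⟩ := exists_prime_orderOf_dvd_card' (G := (P : Subgroup G)) p (dvd_of_eq hP.symm)
  haveI : IsPretransitive G α := transitive_of_order hα (g := (c : G)) (by rw [Subgroup.orderOf_coe, hc])
  have hns : ¬ Group.IsSolvable G := fun hs => hPn (sylow_normal_of_solvable hα G hs P hP)
  have h3 : IsMultiplyPretransitive G α 3 :=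
    Cfsg.Agent.S0676.result hα G hns P (by rw [hN]; exact even_two_mul p)
  haveI := h3
  haveI : IsMultiplyPretransitive G α 2 := isMultiplyPretransitive_of_le (n := 3) (by norm_num) (by
    rw [Nat.card_eq_fintype_card, hα]; omega)
  let e : Multiplicative (ZMod p) ≃* ↥(P : Subgroup G) := mulEquivOfPrimeCardEq (p := p) (by simp) hP
  have hinv : ∀ i : G, orderOf i = 2 → Nat.card (fixedBy α i) = 1 := fun i hi =>
    involution_fix hα (by omega) hP hN e hi
  have hq := quad_bound hα (by omega) hP hN e (sum_desc_three h3 (by omega))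
  rw [← hα] at hq
  have hfix : ∀ g : G, 3 ≤ Nat.card (fixedBy α g) → g = 1 :=
    eq_one_of_three_fixed h3 hinv (by omega) hq
  obtain ⟨a, -, ha, F, iF, iFt, hF, hiso⟩ := Cfsg.Agent.S4702.result (α := α) (by omega)
    (by rw [hα]; exact hp.out.odd_of_ne_two (by omega)) G h3 hfix
  exact ⟨a, F, iF, iFt, hα ▸ ha, hF, hiso⟩

end CfsgLib.Perm.TwoP
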